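import Cfsg.Agent.H126.P4.PSL
import Cfsg.Agent.H376.PslPair
import Cfsg.Agent.H363.CommUnip

/-!
# Elements of `PSL_n(v)` (helper126, BLOCK 6)

* `torusS` : an element of order `(v ^ n - 1) / ((v - 1) gcd(n, v - 1))`;
* `exists_k` : an element of order `l ^ (j + 1)`, `l` prime to `v`, gives `k ≤ n` with `l ^ (j + 1) ∣ v ^ k - 1`;
* `not_sq_five` : `PSL_l(v)` has no element of order `l ^ 2` if `l` divides `v - 1` exactly once (`l` an odd prime);
* `lt_of_unip` : an element of order `u ^ k`, `u` the characteristic, `k ≥ 1`, gives `u ^ (k - 1) < n`;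
* `exists_pair` : an element of prime order `r ∣ |SL_{n-1}(v)|` acting nontrivially on a `u`-group.
-/

set_option autoImplicit false
set_option linter.unusedSectionVars false
set_option linter.unusedVariables false

namespace Cfsg.Agent.H126.Six

open Matrix Cfsg.Agent.H72.AdjOrth

variable {F : Type*} [Field F] [Fintype F] {n : ℕ}

/-- The Singer torus. -/
theorem torusS (hn : n ≠ 0) : ∃ z : Matrix.ProjectiveSpecialLinearGroup (Fin n) F,
    orderOf z * ((Fintype.card F - 1) * Nat.gcd n (Fintype.card F - 1)) = Fintype.card F ^ n - 1 := by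
  obtain ⟨A, hA⟩ := H72.AdjPSU.exists_singer F hn
  have hq1 := Fintype.one_lt_card (α := F)
  have hdet0 : (A : Matrix (Fin n) (Fin n) F).det ≠ 0 :=
    ((Matrix.isUnit_iff_isUnit_det _).1 A.isUnit).ne_zero
  set g := Nat.gcd n (Fintype.card F - 1) with hg
  have hg0 : 0 < g := Nat.gcd_pos_of_pos_right _ (by omega)
  obtain ⟨N, hN⟩ := H126.P4.dvd_geom (u := Fintype.card F) (n := n) (by omega)
  rw [← hg] at hN
  have h0 : 0 < (Fintype.card F - 1) * g := Nat.mul_pos (by omega) hg0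
  obtain ⟨z, hz⟩ := H72.AdjPSL.exists_order (n := n) ((A : Matrix (Fin n) (Fin n) F) ^ (Fintype.card F - 1)) (by
    rw [Matrix.det_pow]
    exact FiniteField.pow_card_sub_one_eq_one _ hdet0) (N := N) (by
    intro k t hk
    rw [← pow_mul] at hk
    have h1 : t ^ n = 1 := by
      have h2 := congrArg Matrix.det hk
      rw [Matrix.det_pow, Matrix.det_smul, Matrix.det_one, mul_one, Fintype.card_fin, pow_mul,
        FiniteField.pow_card_sub_one_eq_one _ hdet0, one_pow] at h2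
      exact h2.symm
    have ht0 : t ≠ 0 := by
      rintro rfl
      rw [zero_pow hn] at h1
      exact zero_ne_one h1
    have h6 : t ^ (Fintype.card F - 1) = 1 := FiniteField.pow_card_sub_one_eq_one t ht0
    have h7 : t ^ g = 1 := by
      rw [hg, ← orderOf_dvd_iff_pow_eq_one]
      exact Nat.dvd_gcd (orderOf_dvd_of_pow_eq_one h1) (orderOf_dvd_of_pow_eq_one h6)
    have h8 : A ^ ((Fintype.card F - 1) * k * g) = 1 := by
      apply Units.ext
      rw [Units.val_pow_eq_pow_val, pow_mul, hk, smul_pow, one_pow, h7, one_smul, Units.val_one]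
    have h9 := orderOf_dvd_of_pow_eq_one h8
    rw [hA, hN] at h9
    have h10 : (Fintype.card F - 1) * k * g = (Fintype.card F - 1) * g * k := by ring
    rw [h10] at h9
    exact Nat.dvd_of_mul_dvd_mul_left h0 h9) N dvd_rfl
  exact ⟨z, by rw [hz, hN]; ring⟩

/-- lift to `SL_n`, of order a given prime power -/
theorem exists_lift {l a : ℕ} (hl : l.Prime) {x : Matrix.ProjectiveSpecialLinearGroup (Fin n) F}
    (hx : orderOf x = l ^ a) :
    ∃ (X : Matrix.SpecialLinearGroup (Fin n) F) (b : ℕ), orderOf X = l ^ b ∧ a ≤ b ∧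
      ∀ k : ℕ, (X ^ k ∈ Subgroup.center (Matrix.SpecialLinearGroup (Fin n) F) → l ^ a ∣ k) := by
  obtain ⟨X, rfl⟩ := QuotientGroup.mk_surjective x
  have hfin : Finite (Matrix.SpecialLinearGroup (Fin n) F) := Subtype.finite
  have h0 : orderOf X ≠ 0 := (orderOf_pos X).ne'
  obtain ⟨b, m, hm, hXm⟩ := Nat.exists_eq_pow_mul_and_not_dvd h0 l hl.ne_one
  have hcop : Nat.Coprime m l := ((Nat.Prime.coprime_iff_not_dvd hl).2 hm).symm
  have hm0 : m ≠ 0 := by rintro rfl; simp at hm
  have hd : orderOf (QuotientGroup.mk X : Matrix.ProjectiveSpecialLinearGroup (Fin n) F) ∣ orderOf X := by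
    apply orderOf_dvd_of_pow_eq_one
    rw [← QuotientGroup.mk_pow, pow_orderOf_eq_one]
    rfl
  refine ⟨X ^ m, b, ?_, ?_, ?_⟩
  · rw [orderOf_pow' X hm0, hXm, Nat.gcd_eq_right (Dvd.intro_left _ rfl), Nat.mul_div_cancel _ (by omega)]
  · rw [hx, hXm] at hd
    have h1 : l ^ a ∣ l ^ b := (Nat.Coprime.pow_left a hcop.symm).dvd_of_dvd_mul_right hd
    exact (Nat.pow_dvd_pow_iff_le_right hl.one_lt).1 h1
  · intro k hk
    rw [← pow_mul, ← QuotientGroup.eq_one_iff, QuotientGroup.mk_pow] at hk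
    have h1 := orderOf_dvd_of_pow_eq_one hk
    rw [hx] at h1
    exact (Nat.Coprime.pow_left a hcop.symm).dvd_of_dvd_mul_left h1

/-- `l ^ (c + 1)` divides `v ^ k - 1`, `k ≤ n`, if `SL_n(v)` has an element of this order. -/
theorem exists_k_of_lift {l c : ℕ} (hl : l.Prime) (hlv : ¬ l ∣ Fintype.card F)
    {X : Matrix.SpecialLinearGroup (Fin n) F} (hX : orderOf X = l ^ (c + 1)) :
    ∃ k, 1 ≤ k ∧ k ≤ n ∧ l ^ (c + 1) ∣ Fintype.card F ^ k - 1 := by
  set g : Module.End F (Fin n → F) := Matrix.toLinAlgEquiv' (X : Matrix (Fin n) (Fin n) F) with hgd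
  have hpow : ∀ k : ℕ, g ^ k = 1 ↔ X ^ k = 1 := by
    intro k
    have h2 : g ^ k = Matrix.toLinAlgEquiv' ((X ^ k : Matrix.SpecialLinearGroup (Fin n) F) :
        Matrix (Fin n) (Fin n) F) := by
      rw [hgd, ← map_pow, Matrix.SpecialLinearGroup.coe_pow]
    rw [h2]
    constructor
    · intro h
      apply Subtype.ext
      apply (Matrix.toLinAlgEquiv' (R := F) (n := Fin n)).injective
      rw [h, Matrix.SpecialLinearGroup.coe_one, map_one]
    · intro h
      rw [h, Matrix.SpecialLinearGroup.coe_one, map_one]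
  have hg : g ^ l ^ (c + 1) = 1 := by rw [hpow, ← hX, pow_orderOf_eq_one]
  have hg1 : g ^ l ^ c ≠ 1 := by
    rw [Ne, hpow]
    intro h
    have h1 := orderOf_dvd_of_pow_eq_one h
    rw [hX, Nat.pow_dvd_pow_iff_le_right hl.one_lt] at h1
    omega
  have h1 := H363.CommUnip.card_modEq g hl hg ⊤ (fun _ _ => Submodule.mem_top)
  rw [top_inf_eq, finrank_top, Module.finrank_fin_fun, Nat.card_eq_fintype_card] at h1
  set d := Module.finrank F (LinearMap.ker (g ^ l ^ c - 1)) with hd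
  have hdn : d < n := by
    have h2 : LinearMap.ker (g ^ l ^ c - 1) < ⊤ := by
      rw [lt_top_iff_ne_top]
      intro h3
      apply hg1
      rw [LinearMap.ker_eq_top, sub_eq_zero] at h3
      exact h3
    have h3 := Submodule.finrank_lt h2.ne
    rwa [Module.finrank_fin_fun] at h3
  refine ⟨n - d, by omega, by omega, ?_⟩
  have hq1 := Fintype.one_lt_card (α := F)
  have h4 : l ^ (c + 1) ∣ Fintype.card F ^ n - Fintype.card F ^ d :=
    (Nat.modEq_iff_dvd' (Nat.pow_le_pow_right (by omega) hdn.le)).1 h1.symm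
  have h5 : Fintype.card F ^ n - Fintype.card F ^ d = Fintype.card F ^ d * (Fintype.card F ^ (n - d) - 1) := by
    rw [Nat.mul_sub, mul_one, ← pow_add]
    congr 2
    omega
  rw [h5] at h4
  exact (Nat.Coprime.pow _ _ ((Nat.Prime.coprime_iff_not_dvd hl).2 hlv)).dvd_of_dvd_mul_left h4

/-- `l ^ (j + 1)` divides `v ^ k - 1`, `k ≤ n`, if `PSL_n(v)` has an element of this order. -/
theorem exists_k {l j : ℕ} (hl : l.Prime) (hlv : ¬ l ∣ Fintype.card F)
    {x : Matrix.ProjectiveSpecialLinearGroup (Fin n) F} (hx : orderOf x = l ^ (j + 1)) :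
    ∃ k, 1 ≤ k ∧ k ≤ n ∧ l ^ (j + 1) ∣ Fintype.card F ^ k - 1 := by
  obtain ⟨X, b, hX, hab, -⟩ := exists_lift hl hx
  obtain ⟨c, rfl⟩ : ∃ c, b = c + 1 := ⟨b - 1, by omega⟩
  obtain ⟨k, h1, h2, h3⟩ := exists_k_of_lift hl hlv hX
  exact ⟨k, h1, h2, (pow_dvd_pow l hab).trans h3⟩

open Polynomial in
/-- an eigenvector -/
theorem exists_eig {V : Type*} [AddCommGroup V] [Module F V] (S : Module.End F V) (s : Finset F) :
    ∀ u : V, u ≠ 0 → (aeval S (∏ ζ ∈ s, (X - C ζ))) u = 0 → ∃ ζ ∈ s, ∃ w : V, w ≠ 0 ∧ S w = ζ • w := by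
  classical
  induction s using Finset.induction_on with
  | empty =>
    intro u hu h
    rw [Finset.prod_empty, map_one] at h
    exact absurd h hu
  | insert a s ha ih =>
    intro u hu h
    rw [Finset.prod_insert ha, mul_comm, map_mul, Module.End.mul_apply] at h
    have h1 : (aeval S (X - C a)) u = S u - a • u := by
      rw [map_sub, aeval_X, aeval_C, LinearMap.sub_apply]
      rfl
    rw [h1] at h
    by_cases h2 : S u - a • u = 0
    · exact ⟨a, Finset.mem_insert_self _ _, u, hu, sub_eq_zero.1 h2⟩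
    · obtain ⟨ζ, h3, h4⟩ := ih _ h2 h
      exact ⟨ζ, Finset.mem_insert_of_mem h3, h4⟩

open Polynomial in
/-- an irreducible polynomial `T ^ 5 - ζ` in dimension 5 -/
theorem pow_five_scalar {V : Type*} [AddCommGroup V] [Module F V] (hV : Module.finrank F V = 5) {T : Module.End F V}
    {ζ : F} (hζ : ∀ b : F, b ^ 5 ≠ ζ) {w : V} (hw : w ≠ 0) (hTw : (T ^ 5) w = ζ • w) : ∀ v : V, (T ^ 5) v = ζ • v := by
  have hfin : FiniteDimensional F V := FiniteDimensional.of_finrank_pos (by omega)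
  have hirr : Irreducible (X ^ 5 - C ζ : F[X]) := X_pow_sub_C_irreducible_of_prime (by norm_num) hζ
  have hP : (aeval T (X ^ 5 - C ζ)) w = 0 := by
    rw [map_sub, map_pow, aeval_X, aeval_C, LinearMap.sub_apply, hTw]
    exact sub_self _
  let φ : Polynomial.degreeLT F 5 →ₗ[F] V :=
    { toFun := fun p => (aeval T (p : F[X])) w
      map_add' := fun p r => by rw [Submodule.coe_add, map_add, LinearMap.add_apply]
      map_smul' := fun c p => by rw [Submodule.coe_smul, map_smul, LinearMap.smul_apply, RingHom.id_apply] }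
  have hinj : Function.Injective φ := by
    rw [← LinearMap.ker_eq_bot, Submodule.eq_bot_iff]
    rintro ⟨p, hp⟩ hp0
    rw [LinearMap.mem_ker] at hp0
    change (aeval T p) w = 0 at hp0
    by_contra hne
    have hp1 : p ≠ 0 := fun h => hne (Subtype.ext h)
    have hcop : IsCoprime (X ^ 5 - C ζ) p := by
      rw [hirr.coprime_iff_not_dvd]
      intro hd
      have h1 := degree_le_of_dvd hd hp1
      rw [degree_X_pow_sub_C (by norm_num)] at h1
      exact absurd (mem_degreeLT.1 hp) (not_lt.2 h1)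
    obtain ⟨a, b, hab⟩ := hcop
    apply hw
    have h2 : (aeval T (a * (X ^ 5 - C ζ) + b * p)) w = w := by rw [hab, map_one]; rfl
    rw [← h2, map_add, map_mul, map_mul, LinearMap.add_apply, Module.End.mul_apply, Module.End.mul_apply, hP, hp0,
      map_zero, map_zero, add_zero]
  have hdim : Module.finrank F (Polynomial.degreeLT F 5) = Module.finrank F V := by
    rw [hV, (degreeLTEquiv F 5).finrank_eq, Module.finrank_fin_fun]
  have hfin' : FiniteDimensional F (Polynomial.degreeLT F 5) := (degreeLTEquiv F 5).symm.finiteDimensional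
  have hsurj := (LinearMap.injective_iff_surjective_of_finrank_eq_finrank hdim).1 hinj
  intro v
  obtain ⟨⟨p, hp⟩, rfl⟩ := hsurj v
  change (T ^ 5) ((aeval T p) w) = ζ • (aeval T p) w
  have h1 : (T ^ 5) * (aeval T p) = (aeval T p) * (T ^ 5) := by
    have h2 : T ^ 5 = aeval T (X ^ 5 : F[X]) := by rw [map_pow, aeval_X]
    rw [h2, ← map_mul, ← map_mul, mul_comm]
  have h2 := LinearMap.congr_fun h1 w
  rw [Module.End.mul_apply, Module.End.mul_apply, hTw, map_smul] at h2
  exact h2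

/-- powers modulo 125 -/
theorem mod_facts : ∀ v : Fin 125, v.1 % 5 = 1 → v.1 % 25 ≠ 1 → v.1 % 25 ≠ 1 ∧ (v.1 ^ 2) % 25 ≠ 1 ∧
    (v.1 ^ 3) % 25 ≠ 1 ∧ (v.1 ^ 4) % 25 ≠ 1 ∧ (v.1 ^ 5) % 125 ≠ 1 := by decide +kernel

theorem mod_facts' {v : ℕ} (h1 : v % 5 = 1) (h2 : v % 25 ≠ 1) : v % 25 ≠ 1 ∧ (v ^ 2) % 25 ≠ 1 ∧
    (v ^ 3) % 25 ≠ 1 ∧ (v ^ 4) % 25 ≠ 1 ∧ (v ^ 5) % 125 ≠ 1 := by
  have h := mod_facts ⟨v % 125, Nat.mod_lt _ (by norm_num)⟩ (by
    show v % 125 % 5 = 1
    omega) (by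
    show v % 125 % 25 ≠ 1
    omega)
  have e : ∀ k : ℕ, v ^ k % 25 = (v % 125) ^ k % 25 := by
    intro k
    rw [Nat.pow_mod, Nat.pow_mod (v % 125), Nat.mod_mod_of_dvd _ (by norm_num : 25 ∣ 125)]
  have e' : v ^ 5 % 125 = (v % 125) ^ 5 % 125 := by rw [Nat.pow_mod]
  rw [e 2, e 3, e 4, e']
  exact ⟨h2, h.2.1, h.2.2.1, h.2.2.2.1, h.2.2.2.2⟩

theorem mod_of_dvd {v k m : ℕ} (hv : 1 ≤ v) (hm : 2 ≤ m) (h : m ∣ v ^ k - 1) : v ^ k % m = 1 := by
  have h1 : 1 ≤ v ^ k := Nat.one_le_pow _ _ hv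
  have h2 : 1 ≡ v ^ k [MOD m] := (Nat.modEq_iff_dvd' h1).2 h
  have h3 : 1 % m = v ^ k % m := h2
  rw [← h3, Nat.mod_eq_of_lt hm]

/-- `PSL_5(v)` has no element of order 25 if 5 divides `v - 1` exactly once. -/
theorem not_sq_five (h5 : 5 ∣ Fintype.card F - 1) (h25 : ¬ 25 ∣ Fintype.card F - 1)
    (x : Matrix.ProjectiveSpecialLinearGroup (Fin 5) F) : orderOf x ≠ 25 := by
  classical
  intro hx
  have hq1 := Fintype.one_lt_card (α := F)
  set v := Fintype.card F with hv
  have hv5 : v % 5 = 1 := by omega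
  have hv25 : v % 25 ≠ 1 := by
    intro h
    apply h25
    omega
  obtain ⟨m1, m2, m3, m4, m5⟩ := mod_facts' hv5 hv25
  obtain ⟨X, b, hX, hb, hc⟩ := exists_lift (l := 5) (a := 2) (by norm_num) (x := x) (by rw [hx]; norm_num)
  obtain ⟨c, rfl⟩ : ∃ c, b = c + 1 := ⟨b - 1, by omega⟩
  obtain ⟨k, hk1, hk5, hk⟩ := exists_k_of_lift (by norm_num) (by rw [← hv]; omega) hX
  -- the order of `X` is 25
  have hc1 : c = 1 := by
    by_contra hne
    have h1 : 25 ∣ v ^ k - 1 := by
      have h3 : (5 : ℕ) ^ 2 ∣ 5 ^ (c + 1) := pow_dvd_pow 5 hb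
      rw [show (5 : ℕ) ^ 2 = 25 by norm_num] at h3
      exact h3.trans hk
    have h2 : 125 ∣ v ^ k - 1 := by
      have h3 : (5 : ℕ) ^ 3 ∣ 5 ^ (c + 1) := pow_dvd_pow 5 (by omega)
      rw [show (5 : ℕ) ^ 3 = 125 by norm_num] at h3
      exact h3.trans hk
    have h3 := mod_of_dvd (by omega) (by norm_num) h1
    have h4 := mod_of_dvd (by omega) (by norm_num) h2
    interval_cases k
    · rw [pow_one] at h3
      exact m1 h3
    · exact m2 h3
    · exact m3 h3
    · exact m4 h3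
    · exact m5 h4
  subst hc1
  norm_num at hX
  set T : Module.End F (Fin 5 → F) := Matrix.toLinAlgEquiv' (X : Matrix (Fin 5) (Fin 5) F) with hTd
  have hTpow : ∀ k : ℕ, T ^ k = Matrix.toLinAlgEquiv' ((X ^ k : Matrix.SpecialLinearGroup (Fin 5) F) :
        Matrix (Fin 5) (Fin 5) F) := by
    intro k
    rw [hTd, ← map_pow, Matrix.SpecialLinearGroup.coe_pow]
  -- `T ^ 5` is not a scalar
  have hns : ¬ ∃ ζ : F, ∀ u, (T ^ 5) u = ζ • u := by
    rintro ⟨ζ, hζ⟩
    have h1 : (X ^ 5) ∈ Subgroup.center (Matrix.SpecialLinearGroup (Fin 5) F) := by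
      have h2 : ((X ^ 5 : Matrix.SpecialLinearGroup (Fin 5) F) : Matrix (Fin 5) (Fin 5) F) = ζ • 1 := by
        apply (Matrix.toLinAlgEquiv' (R := F) (n := Fin 5)).injective
        rw [← hTpow, map_smul, map_one]
        ext u
        rw [LinearMap.comp_apply, LinearMap.comp_apply, hζ]
        rfl
      rw [Subgroup.mem_center_iff]
      intro g
      apply Subtype.ext
      rw [Matrix.SpecialLinearGroup.coe_mul, Matrix.SpecialLinearGroup.coe_mul, h2, mul_smul_comm, smul_mul_assoc,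
        mul_one, one_mul]
    have h3 := hc 5 h1
    norm_num at h3
  -- an eigenvector of `T ^ 5` with eigenvalue `≠ 1`
  have hT25 : (T ^ 5) ^ 5 = 1 := by
    rw [← pow_mul, hTpow]
    have h1 : X ^ (5 * 5) = 1 := by
      rw [show 5 * 5 = 25 by norm_num, ← hX, pow_orderOf_eq_one]
    rw [h1, Matrix.SpecialLinearGroup.coe_one, map_one]
  obtain ⟨u, hu⟩ : ∃ u, (T ^ 5) u - u ≠ 0 := by
    by_contra hcon
    push Not at hcon
    exact hns ⟨1, fun u => by rw [one_smul]; exact sub_eq_zero.1 (hcon u)⟩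
  obtain ⟨ω, hω⟩ : ∃ ω : F, IsPrimitiveRoot ω 5 := by
    obtain ⟨y, hy⟩ := IsCyclic.exists_generator (α := Fˣ)
    have hordy : orderOf y = v - 1 := by
      rw [orderOf_eq_card_of_forall_mem_zpowers hy, Nat.card_units, Nat.card_eq_fintype_card]
    have h1 : orderOf (y ^ (orderOf y / 5)) = 5 := orderOf_pow_orderOf_div (by omega) (by rw [hordy]; exact h5)
    refine ⟨((y ^ (orderOf y / 5) : Fˣ) : F), ?_⟩
    have h2 := IsPrimitiveRoot.orderOf (y ^ (orderOf y / 5))
    rw [h1] at h2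
    exact h2.map_of_injective (f := Units.coeHom F) Units.val_injective
  have hprod := Polynomial.X_pow_sub_one_eq_prod (by norm_num : 0 < 5) hω
  have h1mem : (1 : F) ∈ Polynomial.nthRootsFinset 5 (1 : F) := by
    rw [Polynomial.mem_nthRootsFinset (by norm_num)]
    norm_num
  obtain ⟨ζ, hζ, w, hw, hTw⟩ := exists_eig (T ^ 5) ((Polynomial.nthRootsFinset 5 (1 : F)).erase 1) _ hu (by
    have h2 : (Polynomial.aeval (T ^ 5)) (Polynomial.X ^ 5 - 1 : Polynomial F) = 0 := by
      rw [map_sub, map_pow, Polynomial.aeval_X, map_one, hT25, sub_self]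
    rw [hprod, ← Finset.prod_erase_mul _ _ h1mem, map_mul] at h2
    have h3 := LinearMap.congr_fun h2 u
    have h4 : (Polynomial.aeval (T ^ 5)) (Polynomial.X - Polynomial.C (1 : F)) = T ^ 5 - 1 := by
      rw [map_sub, Polynomial.aeval_X, Polynomial.aeval_C, map_one]
    rw [Module.End.mul_apply, h4, LinearMap.sub_apply] at h3
    exact h3)
  have hζ1 := Finset.ne_of_mem_erase hζ
  have hζ5 : ζ ^ 5 = 1 := by
    have := Finset.mem_of_mem_erase hζ
    rwa [Polynomial.mem_nthRootsFinset (by norm_num)] at this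
  refine hns ⟨ζ, pow_five_scalar (by simp) ?_ hw hTw⟩
  -- `ζ` is not a fifth power
  intro b hb
  have hb0 : b ≠ 0 := by
    rintro rfl
    rw [zero_pow (by norm_num)] at hb
    rw [← hb, zero_pow (by norm_num)] at hζ5
    exact zero_ne_one hζ5
  have hb25 : b ^ 25 = 1 := by
    rw [show 25 = 5 * 5 by norm_num, pow_mul, hb, hζ5]
  have h6 : orderOf b ∣ 5 ^ 2 := by
    norm_num
    exact orderOf_dvd_of_pow_eq_one hb25
  obtain ⟨i, hi, hbi⟩ := (Nat.dvd_prime_pow (by norm_num)).1 h6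
  have h7 : orderOf b ∣ v - 1 := orderOf_dvd_of_pow_eq_one (FiniteField.pow_card_sub_one_eq_one b hb0)
  have h8 : ¬ orderOf b ∣ 5 := by
    intro h
    rw [orderOf_dvd_iff_pow_eq_one, hb] at h
    exact hζ1 h
  rw [hbi] at h7 h8
  interval_cases i
  · exact h8 (by norm_num)
  · exact h8 (by norm_num)
  · exact h25 (by simpa using h7)

/-- **The exponent of the unipotent elements.** -/
theorem lt_of_unip {u k : ℕ} [hu : Fact u.Prime] [CharP F u] {x : Matrix.ProjectiveSpecialLinearGroup (Fin n) F}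
    (hx : orderOf x = u ^ (k + 1)) : u ^ k < n := by
  obtain ⟨X, rfl⟩ := QuotientGroup.mk_surjective x
  by_contra hcon
  rw [not_lt] at hcon
  -- `X ^ (u ^ (k + 1))` is a scalar
  have h1 : X ^ (u ^ (k + 1)) ∈ Subgroup.center (Matrix.SpecialLinearGroup (Fin n) F) := by
    rw [← QuotientGroup.eq_one_iff, QuotientGroup.mk_pow, ← hx, pow_orderOf_eq_one]
  obtain ⟨c, -, hc⟩ := Matrix.SpecialLinearGroup.mem_center_iff.1 h1
  obtain ⟨d, hd⟩ := (iterateFrobeniusEquiv F u (k + 1)).surjective c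
  rw [iterateFrobeniusEquiv_apply, iterateFrobenius_def] at hd
  have : CharP (Matrix (Fin n) (Fin n) F) u ∨ n = 0 := by
    rcases Nat.eq_zero_or_pos n with h | h
    · exact Or.inr h
    · left
      have : Nonempty (Fin n) := ⟨⟨0, h⟩⟩
      exact Matrix.charP u
  rcases this with hch | hn0
  · have hcomm : Commute (X : Matrix (Fin n) (Fin n) F) (scalar (Fin n) d) :=
      (Matrix.scalar_commute d (fun r' => Commute.all d r') _).symm
    have h2 : ((X : Matrix (Fin n) (Fin n) F) - scalar (Fin n) d) ^ (u ^ (k + 1)) = 0 := by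
      rw [sub_pow_char_pow_of_commute _ _ hcomm, ← map_pow, hd, hc, Matrix.SpecialLinearGroup.coe_pow, sub_self]
    have h3 : ((X : Matrix (Fin n) (Fin n) F) - scalar (Fin n) d) ^ n = 0 := by
      have h4 : IsNilpotent ((X : Matrix (Fin n) (Fin n) F) - scalar (Fin n) d) := ⟨_, h2⟩
      have h5 := Matrix.isNilpotent_charpoly_sub_pow_of_isNilpotent h4
      have h6 : ((X : Matrix (Fin n) (Fin n) F) - scalar (Fin n) d).charpoly = Polynomial.X ^ n := by
        have h7 := sub_eq_zero.1 (IsReduced.eq_zero _ h5)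
        rwa [Fintype.card_fin] at h7
      have h8 := Matrix.aeval_self_charpoly ((X : Matrix (Fin n) (Fin n) F) - scalar (Fin n) d)
      rwa [h6, map_pow, Polynomial.aeval_X] at h8
    have h4 : ((X : Matrix (Fin n) (Fin n) F) - scalar (Fin n) d) ^ (u ^ k) = 0 := pow_eq_zero_of_le hcon h3
    rw [sub_pow_char_pow_of_commute _ _ hcomm, ← map_pow, sub_eq_zero] at h4
    have h5 : X ^ (u ^ k) ∈ Subgroup.center (Matrix.SpecialLinearGroup (Fin n) F) := by
      rw [Subgroup.mem_center_iff]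
      intro g
      apply Subtype.ext
      rw [Matrix.SpecialLinearGroup.coe_mul, Matrix.SpecialLinearGroup.coe_mul, Matrix.SpecialLinearGroup.coe_pow, h4]
      exact ((Matrix.scalar_commute _ (fun r' => Commute.all _ r') (g : Matrix (Fin n) (Fin n) F)).symm).eq
    rw [← QuotientGroup.eq_one_iff, QuotientGroup.mk_pow] at h5
    have h6 := orderOf_dvd_of_pow_eq_one h5
    rw [hx, Nat.pow_dvd_pow_iff_le_right hu.out.one_lt] at h6
    omega
  · subst hn0
    have h2 : X = 1 := Subsingleton.elim _ _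
    rw [h2] at hx
    have h3 : (QuotientGroup.mk (1 : Matrix.SpecialLinearGroup (Fin 0) F) : Matrix.ProjectiveSpecialLinearGroup (Fin 0) F) = 1 := rfl
    rw [h3, orderOf_one] at hx
    have := Nat.one_lt_pow (n := k + 1) (by omega) hu.out.one_lt
    omega

/-- **An element of prime order `r ∣ v ^ j - 1`, `j < n`, acts nontrivially on a group of exponent `u`.** -/
theorem exists_pair {u r j : ℕ} [hu : Fact u.Prime] [CharP F u] (hr : r.Prime) (hn : 3 ≤ n) (hj : 1 ≤ j) (hjn : j < n)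
    (h : r ∣ Fintype.card F ^ j - 1) :
    ∃ (A : Subgroup (Matrix.ProjectiveSpecialLinearGroup (Fin n) F))
      (y a : Matrix.ProjectiveSpecialLinearGroup (Fin n) F), IsPGroup u A ∧ orderOf y = r ∧
      y ∈ Subgroup.normalizer (A : Set (Matrix.ProjectiveSpecialLinearGroup (Fin n) F)) ∧ a ∈ A ∧
      ¬ Commute y a := by
  obtain ⟨m, rfl⟩ : ∃ m, n = m + 1 := ⟨n - 1, by omega⟩
  have := Fact.mk hr
  have h2 : r ∣ Nat.card (Matrix.SpecialLinearGroup (Fin m) F) :=
    H376.Coc.sl_dvd (by omega) hr (Or.inr ⟨j, hj, by omega, h⟩)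
  have hfin : Finite (Matrix.SpecialLinearGroup (Fin m) F) := Subtype.finite
  obtain ⟨B, hB⟩ := exists_prime_orderOf_dvd_card' r h2
  exact H376.PslPair.transport (H376.PslPair.pslSum m F) (H376.PslPair.exists_pair_sum hr hB)

end Cfsg.Agent.H126.Six
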