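import Cfsg.Agent.H60.SixBase
import Cfsg.Agent.H126.Six.Elem

/-!
# Numerical facts for the row `PSL_n(v)`, `q = 5 ^ m` (helper126, BLOCK 6)
-/

set_option autoImplicit false

namespace Cfsg.Agent.H126.Six

open Cfsg.Agent.H376.Six Cfsg.Agent.H60.Six5

theorem three_dvd_aux {n : ℕ} (hn : 8 ≤ n) : 16 * n ^ 3 < 7 ^ n := by
  induction n, hn using Nat.le_induction with
  | base => norm_num
  | succ n hn ih =>
    have h1 : (n + 1) ^ 3 ≤ 7 * n ^ 3 := by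
      obtain ⟨m, rfl⟩ := Nat.exists_eq_add_of_le hn
      ring_nf
      nlinarith [sq_nonneg m, pow_nonneg (Nat.zero_le m) 3]
    calc 16 * (n + 1) ^ 3 ≤ 7 * (16 * n ^ 3) := by omega
      _ < 7 * 7 ^ n := by omega
      _ = 7 ^ (n + 1) := by rw [pow_succ]; ring

theorem N_lower {v n N g : ℕ} (hv : 2 ≤ v) (hn : 4 ≤ n) (hN : N * ((v - 1) * g) = v ^ n - 1) (hg : g ≤ v - 1) :
    v ^ (n - 2) ≤ N := by
  by_contra hcon
  rw [not_le] at hcon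
  obtain ⟨w, rfl⟩ : ∃ w, v = w + 1 := ⟨v - 1, by omega⟩
  rw [Nat.add_sub_cancel] at hN hg
  obtain ⟨m, rfl⟩ : ∃ m, n = m + 2 := ⟨n - 2, by omega⟩
  rw [Nat.add_sub_cancel] at hcon
  have h1 : N * (w * g) ≤ ((w + 1) ^ m - 1) * (w * w) := Nat.mul_le_mul (by omega) (Nat.mul_le_mul_left _ hg)
  have h2 : 1 ≤ (w + 1) ^ m := Nat.one_le_pow _ _ (by omega)
  obtain ⟨X, hX⟩ : ∃ X, (w + 1) ^ m = X + 1 := ⟨(w + 1) ^ m - 1, by omega⟩
  rw [pow_add, hX] at hN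
  rw [hX, Nat.add_sub_cancel] at h1
  have h3 : (X + 1) * (w + 1) ^ 2 - 1 = X * (w * w) + (2 * w + 1) * X + (w + 1) ^ 2 - 1 := by
    congr 1
    ring
  have h4 : 1 < (w + 1) ^ 2 := Nat.one_lt_pow (by norm_num) (by omega)
  have h5 : 0 ≤ (2 * w + 1) * X := Nat.zero_le _
  omega

theorem four_lower {v N g : ℕ} (hv : 2 ≤ v) (hN : N * ((v - 1) * g) = v ^ 4 - 1) (hg : g ≤ 4) : v ^ 3 < 4 * N := by
  obtain ⟨w, rfl⟩ : ∃ w, v = w + 1 := ⟨v - 1, by omega⟩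
  rw [Nat.add_sub_cancel] at hN
  have h1 : N * (w * g) ≤ N * (w * 4) := Nat.mul_le_mul_left _ (Nat.mul_le_mul_left _ hg)
  have h2 : (w + 1) ^ 4 - 1 = w * ((w + 1) ^ 3 + (w + 1) ^ 2 + (w + 1) + 1) := by
    have : (w + 1) ^ 4 = w * ((w + 1) ^ 3 + (w + 1) ^ 2 + (w + 1) + 1) + 1 := by ring
    rw [this, Nat.add_sub_cancel]
  rw [hN, h2] at h1
  have h3 : w * ((w + 1) ^ 3 + (w + 1) ^ 2 + (w + 1) + 1) ≤ w * (4 * N) := by
    calc _ ≤ N * (w * 4) := h1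
      _ = w * (4 * N) := by ring
  have h4 := Nat.le_of_mul_le_mul_left h3 (by omega : 0 < w)
  have h5 : 0 < (w + 1) ^ 2 := by positivity
  omega

/-- the size argument with a power of the characteristic -/
theorem num_D {v n a N g u k : ℕ} (hn : 4 ≤ n) (hu : 7 ≤ u) (huv : u ≤ v) (ha : a = u ^ (k + 1)) (hk : u ^ k < n)
    (hN : N * ((v - 1) * g) = v ^ n - 1) (hg : g ≤ n) (hg' : g ≤ v - 1) (hN2 : N ^ 2 ≤ 16 * a ^ 3) : False := by
  have hlow := N_lower (by omega) hn hN hg'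
  rcases Nat.eq_zero_or_pos k with rfl | hk0
  · have hau : a ≤ v := by rw [ha, zero_add, pow_one]; exact huv
    have hN3 : N ^ 2 ≤ 16 * v ^ 3 := hN2.trans (Nat.mul_le_mul_left _ (Nat.pow_le_pow_left hau 3))
    rcases (by omega : n = 4 ∨ 5 ≤ n) with rfl | hn5
    · have h1 := four_lower (by omega) hN hg
      have h2 : (v ^ 3) ^ 2 < (4 * N) ^ 2 := Nat.pow_lt_pow_left h1 (by norm_num)
      have h3 : (4 * N) ^ 2 ≤ 256 * v ^ 3 := by
        calc (4 * N) ^ 2 = 16 * N ^ 2 := by ring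
          _ ≤ 16 * (16 * v ^ 3) := Nat.mul_le_mul_left _ hN3
          _ = _ := by ring
      have h4 : v ^ 3 * v ^ 3 < 256 * v ^ 3 := by
        rw [← pow_two]
        exact h2.trans_le h3
      have h5 := Nat.lt_of_mul_lt_mul_right h4
      have h6 : 7 ^ 3 ≤ v ^ 3 := Nat.pow_le_pow_left (by omega) 3
      norm_num at h6
      omega
    · have h1 : v ^ 3 ≤ N := (Nat.pow_le_pow_right (by omega) (by omega)).trans hlow
      have h2 : (v ^ 3) ^ 2 ≤ 16 * v ^ 3 := (Nat.pow_le_pow_left h1 2).trans hN3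
      rw [pow_two] at h2
      have h5 := Nat.le_of_mul_le_mul_right h2 (pow_pos (by omega) 3)
      have h6 : 7 ^ 3 ≤ v ^ 3 := Nat.pow_le_pow_left (by omega) 3
      norm_num at h6
      omega
  · have h1 : u ≤ u ^ k := Nat.le_self_pow (by omega) u
    have hn8 : 8 ≤ n := by omega
    have h2 : a ≤ n * v := by
      rw [ha, pow_succ]
      exact Nat.mul_le_mul hk.le huv
    have h3 : N ^ 2 ≤ 16 * (n * v) ^ 3 := hN2.trans (Nat.mul_le_mul_left _ (Nat.pow_le_pow_left h2 3))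
    have h4 : (v ^ (n - 2)) ^ 2 ≤ 16 * (n * v) ^ 3 := (Nat.pow_le_pow_left hlow 2).trans h3
    have h5 : (v ^ (n - 2)) ^ 2 = v ^ (2 * n - 7) * v ^ 3 := by
      rw [← pow_mul, ← pow_add]
      congr 1
      omega
    have h6 : 16 * (n * v) ^ 3 = (16 * n ^ 3) * v ^ 3 := by ring
    rw [h5, h6] at h4
    have h7 := Nat.le_of_mul_le_mul_right h4 (pow_pos (by omega) 3)
    have h8 := three_dvd_aux hn8
    have h9 : 7 ^ n ≤ v ^ (2 * n - 7) :=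
      (Nat.pow_le_pow_right (by norm_num) (by omega)).trans (Nat.pow_le_pow_left (by omega) _)
    omega

theorem ap_bound {q : ℕ} (hq : 5 ≤ q) {N : ℕ} (hN : 2 * N ≤ q ^ 3 + 1) : N ^ 2 ≤ 16 * ap q ^ 3 := by
  have h1 := three_ap (q := q) (by omega)
  have h2 : (q ^ 2 + q + 1) ^ 3 ≤ (3 * ap q) ^ 3 := Nat.pow_le_pow_left h1 3
  have h3 : (2 * N) ^ 2 ≤ (q ^ 3 + 1) ^ 2 := Nat.pow_le_pow_left hN 2
  have h4 : (q ^ 3 + 1) ^ 2 ≤ (q ^ 2 + q + 1) ^ 3 := by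
    have : (q ^ 2 + q + 1) ^ 3 = (q ^ 3 + 1) ^ 2 + (3 * q ^ 5 + 6 * q ^ 4 + 5 * q ^ 3 + 6 * q ^ 2 + 3 * q) := by ring
    omega
  have h5 : (3 * ap q) ^ 3 = 27 * ap q ^ 3 := by ring
  have h6 : (2 * N) ^ 2 = 4 * N ^ 2 := by ring
  omega

theorem sq_le_am {q : ℕ} (hq : 2 ≤ q) : q ^ 2 ≤ 4 * am q := by
  have h1 := three_am (q := q) hq
  obtain ⟨k, rfl⟩ := Nat.exists_eq_add_of_le hq
  have h2 : (2 + k) ^ 2 - (2 + k) + 1 = (2 + k) * (1 + k) + 1 := by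
    have : (2 + k) ^ 2 = (2 + k) * (1 + k) + (2 + k) := by ring
    rw [this, Nat.add_sub_cancel]
  rw [h2] at h1
  nlinarith

theorem sq_le_ap {q : ℕ} (hq : 2 ≤ q) : q ^ 2 ≤ 4 * ap q := by
  have h1 := three_ap (q := q) hq
  omega

theorem am_bound {q : ℕ} (hq : 5 ≤ q) {N : ℕ} (hN : 2 * N ≤ q ^ 3) : N ^ 2 ≤ 16 * am q ^ 3 := by
  have h1 := sq_le_am (q := q) (by omega)
  have h2 : (q ^ 2) ^ 3 ≤ (4 * am q) ^ 3 := Nat.pow_le_pow_left h1 3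
  have h3 : (2 * N) ^ 2 ≤ (q ^ 3) ^ 2 := Nat.pow_le_pow_left hN 2
  have h4 : (q ^ 2) ^ 3 = (q ^ 3) ^ 2 := by ring
  have h5 : (4 * am q) ^ 3 = 64 * am q ^ 3 := by ring
  have h6 : (2 * N) ^ 2 = 4 * N ^ 2 := by ring
  omega

/-- the size argument for `n = 5` -/
theorem num_C {v q a N : ℕ} (hP : Pow5 q) (hv : 2 ≤ v) (h5 : 5 ∣ v - 1) (ha : a ∣ v ^ 2 + 1) (ha2 : Nat.Coprime 2 a)
    (hq : q ^ 2 ≤ 4 * a) (hN : N * ((v - 1) * 5) = v ^ 5 - 1) (hNq : 2 * N ≤ q ^ 3 + 1) : False := by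
  have hq5 := hP.le
  have hN' : v ^ 4 < 5 * N := by
    obtain ⟨w, rfl⟩ : ∃ w, v = w + 1 := ⟨v - 1, by omega⟩
    rw [Nat.add_sub_cancel] at hN
    have h2 : (w + 1) ^ 5 - 1 = w * ((w + 1) ^ 4 + (w + 1) ^ 3 + (w + 1) ^ 2 + (w + 1) + 1) := by
      have : (w + 1) ^ 5 = w * ((w + 1) ^ 4 + (w + 1) ^ 3 + (w + 1) ^ 2 + (w + 1) + 1) + 1 := by ring
      rw [this, Nat.add_sub_cancel]
    rw [h2] at hN
    have h3 : w * (5 * N) = w * ((w + 1) ^ 4 + (w + 1) ^ 3 + (w + 1) ^ 2 + (w + 1) + 1) := by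
      rw [← hN]; ring
    have h4 := Nat.eq_of_mul_eq_mul_left (by omega : 0 < w) h3
    have h5 : 0 < (w + 1) ^ 2 := by positivity
    have h6 : 0 < (w + 1) ^ 3 := by positivity
    omega
  have hv0 : 0 < v ^ 2 + 1 := by positivity
  rcases Nat.even_or_odd v with he | ho
  · have hale := Nat.le_of_dvd hv0 ha
    have hq' : q ^ 2 ≤ 4 * (v ^ 2 + 1) := hq.trans (Nat.mul_le_mul_left _ hale)
    obtain ⟨t, ht⟩ := he
    rcases (by omega : v = 6 ∨ v = 16 ∨ 26 ≤ v) with rfl | rfl | hv26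
    · rcases hP.cases with rfl | h
      · norm_num at hN' hNq
        omega
      · have : 25 ^ 2 ≤ q ^ 2 := Nat.pow_le_pow_left h 2
        norm_num at this hq'
        omega
    · obtain ⟨m, hm, rfl⟩ := hP.pow
      rcases (by omega : m = 1 ∨ m = 2 ∨ 3 ≤ m) with rfl | rfl | hm3
      · norm_num at hN' hNq
        omega
      · norm_num at hN' hNq
        omega
      · have h1 : 5 ^ 3 ≤ 5 ^ m := Nat.pow_le_pow_right (by norm_num) hm3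
        have h2 : (5 ^ 3) ^ 2 ≤ (5 ^ m) ^ 2 := Nat.pow_le_pow_left h1 2
        norm_num at h2 hq'
        omega
    · have h1 : q ≤ 2 * v + 1 := by
        by_contra hcon
        rw [not_le] at hcon
        have h2 : (2 * v + 2) ^ 2 ≤ q ^ 2 := Nat.pow_le_pow_left (by omega) 2
        nlinarith
      have h2 : q ^ 3 ≤ (2 * v + 1) * (4 * (v ^ 2 + 1)) := by
        rw [pow_succ']
        exact Nat.mul_le_mul h1 hq'
      have h3 : 2 * v ^ 4 < 5 * ((2 * v + 1) * (4 * (v ^ 2 + 1)) + 1) := by omega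
      obtain ⟨s, rfl⟩ := Nat.exists_eq_add_of_le hv26
      ring_nf at h3
      nlinarith [sq_nonneg s, pow_nonneg (Nat.zero_le s) 3, pow_nonneg (Nat.zero_le s) 4]
  · have hale : 2 * a ≤ v ^ 2 + 1 := by
      apply Nat.le_of_dvd hv0
      apply ha2.mul_dvd_of_dvd_of_dvd _ ha
      obtain ⟨t, rfl⟩ := ho
      exact ⟨2 * t ^ 2 + 2 * t + 1, by ring⟩
    have hv11 : 11 ≤ v := by
      obtain ⟨t, ht⟩ := ho
      omega
    have hq' : q ^ 2 ≤ 2 * (v ^ 2 + 1) := by omega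
    have h1 : 2 * q ≤ 3 * v := by
      by_contra hcon
      rw [not_le] at hcon
      have h2 : (3 * v + 1) ^ 2 ≤ (2 * q) ^ 2 := Nat.pow_le_pow_left (by omega) 2
      nlinarith
    have h2 : 2 * q ^ 3 ≤ (3 * v) * (2 * (v ^ 2 + 1)) := by
      calc 2 * q ^ 3 = (2 * q) * q ^ 2 := by ring
        _ ≤ _ := Nat.mul_le_mul h1 hq'
    have h3 : 4 * v ^ 4 < 5 * ((3 * v) * (2 * (v ^ 2 + 1)) + 2) := by omega
    obtain ⟨s, rfl⟩ := Nat.exists_eq_add_of_le hv11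
    ring_nf at h3
    nlinarith [sq_nonneg s, pow_nonneg (Nat.zero_le s) 3, pow_nonneg (Nat.zero_le s) 4]

end Cfsg.Agent.H126.Six
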