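import Cfsg.Agent.H126.Six.Num
import Cfsg.Agent.H163.PG.Ord
import Cfsg.Agent.H546.FaPSL

/-!
# BLOCK 6, `q = 5 ^ m`, the row `PSL_n(v)`, `n ≥ 4` (helper126, task 2620 of helper376)
-/

set_option autoImplicit false
set_option linter.unusedSectionVars false
set_option linter.unusedVariables false

namespace Cfsg.Agent.H126.Six

open Matrix Cfsg.Agent.H72.AdjOrth Cfsg.Agent.H376.Six Cfsg.Agent.H60.Six5

universe u

variable {q n : ℕ} {F : Type u} [Field F] [Fintype F]

/-- the order of `v` modulo 25 is at most `n` : `n = 5` and `5` divides `v - 1` exactly once. -/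
theorem L25 (hn : 4 ≤ n) (hub : ∀ x : Matrix.ProjectiveSpecialLinearGroup (Fin n) F, 25 ∣ orderOf x → orderOf x = 25)
    {k : ℕ} (hk : 1 ≤ k) (hkn : k ≤ n) (h25 : 25 ∣ Fintype.card F ^ k - 1) :
    n = 5 ∧ 5 ∣ Fintype.card F - 1 ∧ ¬ 25 ∣ Fintype.card F - 1 := by
  classical
  have hq1 := Fintype.one_lt_card (α := F)
  -- the minimal exponent
  obtain ⟨k, hk, hkn, h25, hmin⟩ : ∃ k, 1 ≤ k ∧ k ≤ n ∧ 25 ∣ Fintype.card F ^ k - 1 ∧
      ∀ j, 1 ≤ j → j < k → ¬ 25 ∣ Fintype.card F ^ j - 1 := by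
    have hex : ∃ k, 1 ≤ k ∧ 25 ∣ Fintype.card F ^ k - 1 := ⟨k, hk, h25⟩
    refine ⟨Nat.find hex, (Nat.find_spec hex).1, (Nat.find_min' hex ⟨hk, h25⟩).trans hkn, (Nat.find_spec hex).2, ?_⟩
    intro j hj1 hj2 hj3
    exact Nat.find_min hex hj2 ⟨hj1, hj3⟩
  set v := Fintype.card F with hv
  have h5k : 5 ∣ v - 1 → k ≤ 5 := by
    intro h5
    by_contra hcon
    apply hmin 5 (by norm_num) (by omega)
    have h1 : v % 5 = 1 := by omega
    have key : ∀ w : Fin 25, w.1 % 5 = 1 → (w.1 ^ 5) % 25 = 1 := by decide +kernel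
    have h2 := key ⟨v % 25, Nat.mod_lt _ (by norm_num)⟩ (by show v % 25 % 5 = 1; omega)
    have h3 : v ^ 5 % 25 = 1 := by rw [Nat.pow_mod]; exact h2
    omega
  by_cases hk2 : k + 2 ≤ n
  · -- a torus of `GL_a`, `a ≥ 2`
    exfalso
    obtain ⟨a, ha2, han, ha25⟩ : ∃ a, 2 ≤ a ∧ a + 2 ≤ n ∧ 25 ∣ v ^ a - 1 := by
      rcases Nat.lt_or_ge k 2 with h1 | h1
      · have : k = 1 := by omega
        subst this
        refine ⟨2, le_rfl, by omega, h25.trans ?_⟩
        have := Nat.sub_dvd_pow_sub_pow (v ^ 1) 1 2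
        rwa [one_pow, ← pow_mul, one_mul] at this
      · exact ⟨k, h1, hk2, h25⟩
    obtain ⟨z, hz⟩ := H126.P4.torus (F := F) (n := n) (a := a) (by omega) han
    rw [← hv] at hz
    have h1 := hub z (by rw [hz]; exact ha25)
    rw [hz] at h1
    have h2 : v ^ 2 ∣ 26 := by
      have h3 : v ^ a = 26 := by omega
      rw [← h3]
      exact pow_dvd_pow v ha2
    have h3 : v ≤ 5 := by
      have := Nat.le_of_dvd (by norm_num) h2
      nlinarith
    interval_cases v <;> norm_num at h2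
  by_cases hkn1 : k + 1 = n
  · exfalso
    obtain ⟨z, hz⟩ := H126.P4.torus' (F := F) (n := n) (a := k) (by omega) hkn1
    rw [← hv] at hz
    set g := Nat.gcd n (v - 1) with hg
    have hgv : g ∣ v - 1 := Nat.gcd_dvd_right _ _
    have hg0 : 0 < g := Nat.gcd_pos_of_pos_right _ (by omega)
    have hgd : g ∣ v ^ k - 1 := hgv.trans (by
      have := Nat.sub_dvd_pow_sub_pow v 1 k
      rwa [one_pow] at this)
    have hg5 : ¬ 5 ∣ g := by
      intro h
      have h1 := h5k (h.trans hgv)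
      have h2 : 5 ∣ n := h.trans (Nat.gcd_dvd_left _ _)
      have h3 : n = 5 := by omega
      have h4 : k = 4 := by omega
      subst h4
      have h5 := h.trans hgv
      have h6 := hmin 1 le_rfl (by norm_num)
      rw [pow_one] at h6
      obtain ⟨-, -, -, m4, -⟩ := mod_facts' (v := v) (by omega) (by omega)
      exact m4 (mod_of_dvd (by omega) (by norm_num) h25)
    obtain ⟨N, hN⟩ := hgd
    rw [hN, Nat.mul_div_cancel_left _ hg0] at hz
    have h1 : 25 ∣ N := by
      rw [hN] at h25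
      have h2 : Nat.Coprime (5 ^ 2) g := Nat.Coprime.pow_left 2 ((Nat.Prime.coprime_iff_not_dvd (by norm_num)).2 hg5)
      norm_num at h2
      exact h2.dvd_of_dvd_mul_left h25
    have h2 := hub z (by rw [hz]; exact h1)
    rw [hz] at h2
    subst h2
    have hgle : g ≤ v - 1 := Nat.le_of_dvd (by omega) hgv
    have h3 : v ^ k = g * 25 + 1 := by
      have := Nat.one_le_pow k v (by omega)
      omega
    have h4 : v ^ (k - 1) < 25 := by
      have h5 : v ^ (k - 1) * v < 25 * v := by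
        rw [← pow_succ, show k - 1 + 1 = k by omega, h3]
        omega
      exact Nat.lt_of_mul_lt_mul_right h5
    have h5 : v ^ 2 ≤ v ^ (k - 1) := Nat.pow_le_pow_right (by omega) (by omega)
    have h6 : v < 5 := by nlinarith
    have h7 : 2 ^ (k - 1) ≤ v ^ (k - 1) := Nat.pow_le_pow_left (by omega) _
    have h8 : k - 1 < 5 := by
      by_contra hcon
      have h9 : 2 ^ 5 ≤ 2 ^ (k - 1) := Nat.pow_le_pow_right (by norm_num) (by omega)
      omega
    have h9 : k = 3 ∨ k = 4 ∨ k = 5 := by omega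
    rw [hN] at h25
    rcases h9 with rfl | rfl | rfl <;> interval_cases v <;> omega
  · have hkn' : k = n := by omega
    subst hkn'
    obtain ⟨z, hz⟩ := torusS (F := F) (n := k) (by omega)
    rw [← hv] at hz
    set g := Nat.gcd k (v - 1) with hg
    have hgv : g ∣ v - 1 := Nat.gcd_dvd_right _ _
    have hg0 : 0 < g := Nat.gcd_pos_of_pos_right _ (by omega)
    have hgle : g ≤ v - 1 := Nat.le_of_dvd (by omega) hgv
    by_cases h5 : 5 ∣ v - 1
    · have h1 := h5k h5
      have h6 := hmin 1 le_rfl (by omega)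
      rw [pow_one] at h6
      refine ⟨?_, h5, h6⟩
      by_contra hne
      have h4 : k = 4 := by omega
      subst h4
      obtain ⟨-, -, -, m4, -⟩ := mod_facts' (v := v) (by omega) (by omega)
      exact m4 (mod_of_dvd (by omega) (by norm_num) h25)
    · exfalso
      have hg5 : ¬ 5 ∣ (v - 1) * g := by
        intro h
        rcases (Nat.Prime.dvd_mul (by norm_num)).1 h with h1 | h1
        · exact h5 h1
        · exact h5 (h1.trans hgv)
      have h1 : 25 ∣ orderOf z := by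
        rw [← hz] at h25
        have h2 : Nat.Coprime (5 ^ 2) ((v - 1) * g) :=
          Nat.Coprime.pow_left 2 ((Nat.Prime.coprime_iff_not_dvd (by norm_num)).2 hg5)
        norm_num at h2
        exact h2.dvd_of_dvd_mul_right h25
      rw [hub z h1] at hz
      have h3 : v ^ k = 25 * ((v - 1) * g) + 1 := by
        have := Nat.one_le_pow k v (by omega)
        omega
      have h4 : v ^ (k - 2) < 25 := by
        have h5 : v ^ (k - 2) * v ^ 2 < 25 * v ^ 2 := by
          rw [← pow_add, show k - 2 + 2 = k by omega, h3]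
          have h6 : (v - 1) * g ≤ (v - 1) * (v - 1) := Nat.mul_le_mul_left _ hgle
          obtain ⟨w, hw⟩ : ∃ w, v = w + 1 := ⟨v - 1, by omega⟩
          rw [hw, Nat.add_sub_cancel] at h6 ⊢
          nlinarith
        exact Nat.lt_of_mul_lt_mul_right h5
      have h5 : v ^ 2 ≤ v ^ (k - 2) := Nat.pow_le_pow_right (by omega) (by omega)
      have h6 : v < 5 := by nlinarith
      have h7 : 2 ^ (k - 2) ≤ v ^ (k - 2) := Nat.pow_le_pow_left (by omega) _
      have h8 : k - 2 < 5 := by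
        by_contra hcon
        have h9 : 2 ^ 5 ≤ 2 ^ (k - 2) := Nat.pow_le_pow_right (by norm_num) (by omega)
        omega
      have h9 : k = 4 ∨ k = 5 ∨ k = 6 := by omega
      rcases h9 with rfl | rfl | rfl <;> interval_cases v <;> omega

/-- the prime divisors of `a ∣ |S|` have the class `k ∈ {n - 1, n}`, so `a ∣ v ^ k - 1` -/
theorem dvd_of_class {a : ℕ} (hn : 4 ≤ n) (ha : a ∣ Nat.card (Matrix.ProjectiveSpecialLinearGroup (Fin n) F)) {k : ℕ}
    (hkn : k = n - 1 ∨ k = n) (hk : ∀ r : ℕ, r.Prime → r ∣ a → ¬ r ∣ Fintype.card F ∧ ee (Fintype.card F) r = k) :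
    a ∣ Fintype.card F ^ k - 1 := by
  classical
  have hq1 := Fintype.one_lt_card (α := F)
  have hcu : Nat.Coprime a (Fintype.card F) := Nat.coprime_of_dvd fun r hr h1 h2 => (hk r hr h1).1 h2
  have hcl : ∀ {i : ℕ}, ¬ k ∣ i → Nat.Coprime a (Fintype.card F ^ i - 1) := fun {i} hi =>
    Nat.coprime_of_dvd fun r hr h1 h2 => hi ((hk r hr h1).2 ▸ ee_dvd (by omega) h2)
  have h1 : a ∣ Nat.card (GL (Fin n) F) := by
    refine (ha.trans (Subgroup.card_quotient_dvd_card _)).trans ?_
    exact Subgroup.card_dvd_of_injective (Matrix.SpecialLinearGroup.toGL (n := Fin n) (R := F))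
      Matrix.SpecialLinearGroup.toGL_injective
  rw [Nat.card_eq_fintype_card, ← Nat.card_eq_fintype_card, Matrix.card_GL_field] at h1
  have h2 : ∀ i : Fin n, Fintype.card F ^ n - Fintype.card F ^ (i : ℕ) =
      Fintype.card F ^ (i : ℕ) * (Fintype.card F ^ (n - i) - 1) := by
    intro i
    rw [Nat.mul_sub, ← pow_add, mul_one]
    congr 2
    omega
  let i0 : Fin n := ⟨n - k, by omega⟩
  rw [← Finset.mul_prod_erase Finset.univ _ (Finset.mem_univ i0)] at h1
  have h3 : Nat.Coprime a (∏ x ∈ Finset.univ.erase i0, (Fintype.card F ^ n - Fintype.card F ^ (x : ℕ))) := by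
    apply Nat.Coprime.prod_right
    intro i hi
    rw [h2]
    apply Nat.Coprime.mul_right
    · exact hcu.pow_right _
    · apply hcl
      intro hd
      have h4 : (i : ℕ) ≠ n - k := fun h5 => (Finset.ne_of_mem_erase hi) (Fin.ext h5)
      have h5 := i.2
      have h6 := Nat.le_of_dvd (by omega) hd
      obtain ⟨c, hc⟩ := hd
      rcases Nat.lt_or_ge c 2 with hc2 | hc2
      · interval_cases c
        · omega
        · omega
      · have : k * 2 ≤ k * c := Nat.mul_le_mul_left _ hc2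
        omega
  have h4 := h3.dvd_of_dvd_mul_right h1
  rw [h2] at h4
  have h5 := (hcu.pow_right (i0 : ℕ)).dvd_of_dvd_mul_left h4
  have h6 : n - (i0 : ℕ) = k := by
    change n - (n - k) = k
    omega
  rwa [h6] at h5

/-- **`n = 5`, `5 ∣ v - 1` exactly once** -/
theorem case_C {q : ℕ} (h : E5 q (Matrix.ProjectiveSpecialLinearGroup (Fin 5) F)) (h5 : 5 ∣ Fintype.card F - 1)
    (h1 : ∃ x : Matrix.ProjectiveSpecialLinearGroup (Fin 5) F, orderOf x = ap q)
    (h2 : ∃ x : Matrix.ProjectiveSpecialLinearGroup (Fin 5) F, orderOf x = am q) : False := by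
  classical
  have hP := pow5 h.pow
  have hq2 : 2 ≤ q := by have := hP.le; omega
  have hv1 := Fintype.one_lt_card (α := F)
  have hca : ap q ∣ Nat.card (Matrix.ProjectiveSpecialLinearGroup (Fin 5) F) := by
    obtain ⟨x, hx⟩ := h1
    exact hx ▸ orderOf_dvd_natCard x
  have hcm : am q ∣ Nat.card (Matrix.ProjectiveSpecialLinearGroup (Fin 5) F) := by
    obtain ⟨x, hx⟩ := h2
    exact hx ▸ orderOf_dvd_natCard x
  have hub : ∀ {N : ℕ}, (∃ x : Matrix.ProjectiveSpecialLinearGroup (Fin 5) F, orderOf x = N) → Ub q N :=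
    fun hN => h.ub' hN
  set v := Fintype.card F with hv
  -- the classes
  have cls : ∀ r : ℕ, r.Prime → (r ∣ ap q ∨ r ∣ am q) → ¬ r ∣ v ∧ (ee v r = 4 ∨ ee v r = 5) := by
    intro r hr hd
    have hrq : ¬ r ∣ q := by
      rcases hd with hd | hd
      · exact (ap_ne hq2 hr hd).2.2
      · exact (am_ne hq2 hr hd).2.2
    have hr5 : r ≠ 5 := by
      rintro rfl
      exact hrq hP.dvd
    have hno : ¬ ∃ x : Matrix.ProjectiveSpecialLinearGroup (Fin 5) F, orderOf x = r * 5 := by
      intro hx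
      have hU := hub hx
      rcases hd with hd | hd
      · exact hP.not_dvd_A ((Dvd.intro_left r rfl).trans (dvd_A hP hr hd (Dvd.intro _ rfl) hU))
      · exact hP.not_dvd_B ((Dvd.intro_left r rfl).trans (dvd_B hP hr hd (Dvd.intro _ rfl) hU))
    have hw5 : H72.AdjPSL.wL (Fintype.card F) 5 = 2 := by
      rw [H72.AdjPSL.wL, if_pos (Or.inr h5)]
    have hw : 5 < H72.AdjPSL.wL (Fintype.card F) r + 2 := by
      by_contra hcon
      rw [not_lt, ← hw5] at hcon
      exact hno (H72.AdjPSL.adj_of_wL hr (by norm_num) hr5 hcon)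
    rw [H72.AdjPSL.wL] at hw
    split_ifs at hw with h3
    · omega
    · rw [not_or] at h3
      have h4 := H72.AdjPSL.ee_le (F := F) (n := 5) hr h3.1 (by
        rcases hd with hd | hd
        · exact hd.trans hca
        · exact hd.trans hcm)
      have hw' : 5 < ee v r + 2 := hw
      have h4' : ee v r ≤ 5 := h4
      exact ⟨h3.1, by omega⟩
  obtain ⟨z4, hz4⟩ := H126.P4.torus' (F := F) (n := 5) (a := 4) (by norm_num) rfl
  obtain ⟨z5, hz5⟩ := torusS (F := F) (n := 5) (by norm_num)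
  rw [← hv] at hz4 hz5
  have hg : Nat.gcd 5 (v - 1) = 5 := Nat.gcd_eq_left h5
  rw [hg] at hz4 hz5
  have hd4 : 5 ∣ v ^ 4 - 1 := h5.trans (by
    have := Nat.sub_dvd_pow_sub_pow v 1 4
    rwa [one_pow] at this)
  have hz4' : orderOf z4 * 5 = v ^ 4 - 1 := by rw [hz4, Nat.div_mul_cancel hd4]
  have hne5 : ∀ r : ℕ, r.Prime → (r ∣ ap q ∨ r ∣ am q) → r ≠ 5 := by
    rintro r hr hd rfl
    rcases hd with hd | hd
    · exact (ap_ne hq2 hr hd).2.2 hP.dvd
    · exact (am_ne hq2 hr hd).2.2 hP.dvd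
  have in4 : ∀ r : ℕ, r.Prime → (r ∣ ap q ∨ r ∣ am q) → ee v r = 4 → r ∣ orderOf z4 := by
    intro r hr hd he
    have h3 := dvd_pow_ee (q := v) (r := r) (by omega)
    rw [he, ← hz4'] at h3
    rcases (Nat.Prime.dvd_mul hr).1 h3 with h4 | h4
    · exact h4
    · exact absurd ((Nat.prime_dvd_prime_iff_eq hr (by norm_num)).1 h4) (hne5 r hr hd)
  have in5 : ∀ r : ℕ, r.Prime → (r ∣ ap q ∨ r ∣ am q) → ee v r = 5 → r ∣ orderOf z5 := by
    intro r hr hd he
    have h3 := dvd_pow_ee (q := v) (r := r) (by omega)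
    rw [he, ← hz5] at h3
    rcases (Nat.Prime.dvd_mul hr).1 h3 with h4 | h4
    · exact h4
    · rcases (Nat.Prime.dvd_mul hr).1 h4 with h6 | h6
      · have h7 : r ∣ v ^ 1 - 1 := by rwa [pow_one]
        have := Nat.le_of_dvd (by norm_num) (ee_dvd (by omega) h7)
        omega
      · exact absurd ((Nat.prime_dvd_prime_iff_eq hr (by norm_num)).1 h6) (hne5 r hr hd)
  have hU4 := hub ⟨z4, rfl⟩
  have hU5 := hub ⟨z5, rfl⟩
  have hne : ∀ r s : ℕ, r.Prime → s.Prime → r ∣ ap q → s ∣ am q → ee v r ≠ ee v s := by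
    intro r s hr hs hra hsm he
    rcases (cls r hr (Or.inl hra)).2 with h3 | h3
    · have h4 := dvd_A hP hr hra (in4 r hr (Or.inl hra) h3) hU4
      exact not_dvd_A_of hP hs hsm ((in4 s hs (Or.inr hsm) (he.symm.trans h3)).trans h4)
    · have h4 := dvd_A hP hr hra (in5 r hr (Or.inl hra) h3) hU5
      exact not_dvd_A_of hP hs hsm ((in5 s hs (Or.inr hsm) (he.symm.trans h3)).trans h4)
  -- the odd number of class 4
  have fin4 : ∀ a : ℕ, a ∣ Nat.card (Matrix.ProjectiveSpecialLinearGroup (Fin 5) F) →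
      (∀ r : ℕ, r.Prime → r ∣ a → ¬ r ∣ v ∧ ee v r = 4) → a ∣ v ^ 2 + 1 := by
    intro a hac hcl
    have h3 := dvd_of_class (n := 5) (by norm_num) hac (k := 4) (Or.inl rfl) hcl
    have h4 : v ^ 4 - 1 = (v ^ 2 + 1) * (v ^ 2 - 1) := by
      rw [show v ^ 4 = (v ^ 2) ^ 2 by ring, show ((v ^ 2) ^ 2 - 1) = (v ^ 2) ^ 2 - 1 ^ 2 by norm_num, Nat.sq_sub_sq]
    rw [← hv, h4] at h3
    have h5 : Nat.Coprime a (v ^ 2 - 1) := Nat.coprime_of_dvd fun r hr h6 h7 => by
      have h8 := Nat.le_of_dvd (by norm_num) (ee_dvd (by omega) h7)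
      have h9 := (hcl r hr h6).2
      omega
    exact h5.dvd_of_dvd_mul_right h3
  obtain ⟨r0, hr0, hr0d⟩ := exists_ap hP
  obtain ⟨s0, hs0, hs0d⟩ := exists_am hP
  have hA := hP.A
  have hB := hP.B
  have hA0 := hP.A_pos
  rcases (cls r0 hr0 (Or.inl hr0d)).2 with h3 | h3
  · have h4 : ee v s0 = 5 := by
      have h5 := hne r0 s0 hr0 hs0 hr0d hs0d
      have h6 := (cls s0 hs0 (Or.inr hs0d)).2
      omega
    have h6 : ∀ r : ℕ, r.Prime → r ∣ ap q → ¬ r ∣ v ∧ ee v r = 4 := by
      intro r hr hrd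
      have h7 := cls r hr (Or.inl hrd)
      have h8 := hne r s0 hr hs0 hrd hs0d
      exact ⟨h7.1, by omega⟩
    have h7 := fin4 _ hca h6
    have h8 := dvd_B hP hs0 hs0d (in5 s0 hs0 (Or.inr hs0d) h4) hU5
    have h9 := Nat.le_of_dvd (by omega) h8
    exact num_C hP (by omega) h5 h7 (ap_odd hq2) (sq_le_ap hq2) hz5 (by omega)
  · have h4 : ee v s0 = 4 := by
      have h5 := hne r0 s0 hr0 hs0 hr0d hs0d
      have h6 := (cls s0 hs0 (Or.inr hs0d)).2
      omega
    have h6 : ∀ r : ℕ, r.Prime → r ∣ am q → ¬ r ∣ v ∧ ee v r = 4 := by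
      intro r hr hrd
      have h7 := cls r hr (Or.inr hrd)
      have h8 := hne r0 r hr0 hr hr0d hrd
      exact ⟨h7.1, by omega⟩
    have h7 := fin4 _ hcm h6
    have h8 := dvd_A hP hr0 hr0d (in5 r0 hr0 (Or.inl hr0d) h3) hU5
    have h9 := Nat.le_of_dvd (by omega) h8
    exact num_C hP (by omega) h5 h7 (am_odd hq2) (sq_le_am hq2) hz5 (by omega)

/-- **the case without Frobenius actions** -/
theorem case_D {q : ℕ} (h5 : ¬ 5 ∣ Fintype.card F) (hn : 4 ≤ n)
    (h : E5 q (Matrix.ProjectiveSpecialLinearGroup (Fin n) F))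
    (h1 : ∃ x : Matrix.ProjectiveSpecialLinearGroup (Fin n) F, orderOf x = ap q)
    (h2 : ∃ x : Matrix.ProjectiveSpecialLinearGroup (Fin n) F, orderOf x = am q)
    (hNF : NoFrob 5 q (Matrix.ProjectiveSpecialLinearGroup (Fin n) F)) : False := by
  classical
  have hP := pow5 h.pow
  have hq2 : 2 ≤ q := by have := hP.le; omega
  have hv1 := Fintype.one_lt_card (α := F)
  have hca : ap q ∣ Nat.card (Matrix.ProjectiveSpecialLinearGroup (Fin n) F) := by
    obtain ⟨x, hx⟩ := h1
    exact hx ▸ orderOf_dvd_natCard x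
  have hcm : am q ∣ Nat.card (Matrix.ProjectiveSpecialLinearGroup (Fin n) F) := by
    obtain ⟨x, hx⟩ := h2
    exact hx ▸ orderOf_dvd_natCard x
  obtain ⟨u, hu⟩ := CharP.exists F
  have hup : Fact u.Prime := ⟨CharP.char_is_prime F u⟩
  obtain ⟨f, -, hf⟩ := FiniteField.card F u
  have hud : u ∣ Fintype.card F := by
    rw [hf]
    exact dvd_pow_self _ f.ne_zero
  have hu_of : ∀ r : ℕ, r.Prime → r ∣ Fintype.card F → r = u := by
    intro r hr hrd
    rw [hf] at hrd
    exact (Nat.prime_dvd_prime_iff_eq hr hup.out).1 (hr.dvd_of_dvd_pow hrd)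
  set v := Fintype.card F with hv
  -- the class is `n`
  have cls : ∀ r : ℕ, r.Prime → (r ∣ ap q ∨ r ∣ am q) → ¬ r ∣ v → ee v r = n := by
    intro r hr hd hrv
    have h4 := H72.AdjPSL.ee_le (F := F) (n := n) hr hrv (by
      rcases hd with hd | hd
      · exact hd.trans hca
      · exact hd.trans hcm)
    by_contra hne
    have h6 : ee v r < n := lt_of_le_of_ne h4 hne
    obtain ⟨A, y, a, hA, hy, hyA, haA, hya⟩ := exists_pair (F := F) (n := n) (u := u) hr (by omega)
      (ee_pos hr hrv) h6 (dvd_pow_ee (q := v) (r := r) (by omega))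
    apply hya
    refine hNF r hr ?_ u hup.out ?_ ?_ A hA y hy ?_ a haA
    · rcases hd with hd | hd
      · exact hd.mul_right _
      · exact hd.mul_left _
    · rintro rfl
      exact h5 hud
    · rintro rfl
      exact hrv hud
    · intro w hw
      exact (Subgroup.mem_normalizer_iff.1 hyA w).1 hw
  obtain ⟨z, hz⟩ := torusS (F := F) (n := n) (by omega)
  rw [← hv] at hz
  set g := Nat.gcd n (v - 1) with hg
  have hgv : g ∣ v - 1 := Nat.gcd_dvd_right _ _
  have hgv' : g ≤ v - 1 := Nat.le_of_dvd (by omega) hgv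
  have hgn : g ≤ n := Nat.le_of_dvd (by omega) (Nat.gcd_dvd_left _ _)
  have inN : ∀ r : ℕ, r.Prime → (r ∣ ap q ∨ r ∣ am q) → ¬ r ∣ v → r ∣ orderOf z := by
    intro r hr hd hrv
    have he := cls r hr hd hrv
    have h3 := dvd_pow_ee (q := v) (r := r) (by omega)
    have h8 : ¬ r ∣ v - 1 := by
      intro h6
      have h7 : r ∣ v ^ 1 - 1 := by rwa [pow_one]
      have := Nat.le_of_dvd (by norm_num) (ee_dvd (by omega) h7)
      omega
    rw [he, ← hz] at h3
    rcases (Nat.Prime.dvd_mul hr).1 h3 with h4 | h4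
    · exact h4
    · rcases (Nat.Prime.dvd_mul hr).1 h4 with h6 | h6
      · exact absurd h6 h8
      · exact absurd (h6.trans hgv) h8
  have hU := h.ub' ⟨z, rfl⟩
  have hA := hP.A
  have hB := hP.B
  have hA0 := hP.A_pos
  -- a power of the characteristic
  have upow : ∀ a : ℕ, 1 < a → (∃ x : Matrix.ProjectiveSpecialLinearGroup (Fin n) F, orderOf x = a) →
      (∀ r : ℕ, r.Prime → r ∣ a → r ∣ v) → ∃ k, a = u ^ (k + 1) ∧ u ^ k < n := by
    intro a ha hx hr
    have h3 : a = u ^ a.primeFactorsList.length :=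
      Nat.eq_prime_pow_of_unique_prime_dvd (by omega) fun {d} hd hda => hu_of d hd (hr d hd hda)
    obtain ⟨k, hk⟩ : ∃ k, a.primeFactorsList.length = k + 1 := by
      refine ⟨a.primeFactorsList.length - 1, ?_⟩
      rcases Nat.eq_zero_or_pos a.primeFactorsList.length with h4 | h4
      · rw [h4, pow_zero] at h3
        omega
      · omega
    rw [hk] at h3
    obtain ⟨x, hx⟩ := hx
    exact ⟨k, h3, lt_of_unip (hx.trans h3)⟩
  have hu7 : ∀ r : ℕ, r.Prime → (r ∣ ap q ∨ r ∣ am q) → 7 ≤ r := by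
    intro r hr hd
    have h3 : r ≠ 2 ∧ r ≠ 3 ∧ ¬ r ∣ q := by
      rcases hd with hd | hd
      · exact ap_ne hq2 hr hd
      · exact am_ne hq2 hr hd
    have h4 : r ≠ 5 := by
      rintro rfl
      exact h3.2.2 hP.dvd
    have h6 := hr.two_le
    have h7 : r ≠ 4 := by
      rintro rfl
      norm_num at hr
    have h8 : r ≠ 6 := by
      rintro rfl
      norm_num at hr
    have h31 := h3.1
    have h32 := h3.2.1
    omega
  by_cases hex1 : ∃ r : ℕ, r.Prime ∧ r ∣ ap q ∧ ¬ r ∣ v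
  · obtain ⟨r, hr, hrd, hrv⟩ := hex1
    have hNA := dvd_A hP hr hrd (inN r hr (Or.inl hrd) hrv) hU
    by_cases hex2 : ∃ s : ℕ, s.Prime ∧ s ∣ am q ∧ ¬ s ∣ v
    · obtain ⟨s, hs, hsd, hsv⟩ := hex2
      exact not_dvd_A_of hP hs hsd ((inN s hs (Or.inr hsd) hsv).trans hNA)
    · push Not at hex2
      obtain ⟨k, hk1, hk2⟩ := upow (am q) (by have := am_ge hP; omega) h2 hex2
      have hu7' : 7 ≤ u := hu7 u hup.out (Or.inr (by rw [hk1]; exact dvd_pow_self _ (by omega)))
      have hNle := Nat.le_of_dvd hA0 hNA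
      exact num_D hn hu7' (Nat.le_of_dvd (by omega) hud) hk1 hk2 hz hgn hgv' (am_bound hP.le (by omega))
  · push Not at hex1
    obtain ⟨k, hk1, hk2⟩ := upow (ap q) (by have := ap_ge hP; omega) h1 hex1
    have hu7' : 7 ≤ u := hu7 u hup.out (Or.inl (by rw [hk1]; exact dvd_pow_self _ (by omega)))
    obtain ⟨s, hs, hsd⟩ := exists_am hP
    have hsv : ¬ s ∣ v := by
      intro hsv
      have h3 := hu_of s hs hsv
      subst h3
      exact not_dvd_B_of hP hs (by rw [hk1]; exact dvd_pow_self _ (by omega)) (hsd.trans (am_dvd_half hq2 hP.two))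
    have hNB := dvd_B hP hs hsd (inN s hs (Or.inr hsd) hsv) hU
    have hNle := Nat.le_of_dvd (by omega) hNB
    exact num_D hn hu7' (Nat.le_of_dvd (by omega) hud) hk1 hk2 hz hgn hgv' (ap_bound hP.le (by omega))

/-- **Task 2620.** -/
theorem psl {q n : ℕ} {F : Type u} [Field F] [Fintype F] (h5 : ¬ 5 ∣ Fintype.card F) (hn : 4 ≤ n)
    (h : E5 q (Matrix.ProjectiveSpecialLinearGroup (Fin n) F)) : False := by
  classical
  have hP := pow5 h.pow
  have hv1 := Fintype.one_lt_card (α := F)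
  have hub : ∀ x : Matrix.ProjectiveSpecialLinearGroup (Fin n) F, 25 ∣ orderOf x → orderOf x = 25 :=
    fun x hx => eq_25 hP hx (h.ub' ⟨x, rfl⟩)
  rcases h.five with ⟨h1, h2, hNF | hO⟩ | ⟨x, hx⟩
  · exact case_D h5 hn h h1 h2 hNF
  · obtain ⟨u, hu⟩ := CharP.exists F
    have hup : u.Prime := CharP.char_is_prime F u
    obtain ⟨f, -, hf⟩ := FiniteField.card F u
    rw [H163.PG.card_out_psl hup f.2 hf (by omega) (H546.FaPSL.center (by omega))] at hO
    have h3 : ∃ k, 1 ≤ k ∧ k ≤ n ∧ 25 ∣ Fintype.card F ^ k - 1 := by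
      rcases (Nat.Prime.dvd_mul (by norm_num)).1 hO with h3 | h3
      · have h4 : 5 ∣ (f : ℕ) := (Nat.Coprime.dvd_of_dvd_mul_left (by norm_num : Nat.Coprime 5 2) h3)
        obtain ⟨e, he⟩ := h4
        refine ⟨4, by norm_num, hn, ?_⟩
        have h6 : Nat.Coprime u 25 := by
          have h7 : Nat.Coprime u 5 := by
            rw [Nat.Prime.coprime_iff_not_dvd hup, Nat.prime_dvd_prime_iff_eq hup (by norm_num)]
            rintro rfl
            exact h5 (by rw [hf]; exact dvd_pow_self _ f.ne_zero)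
          have := Nat.Coprime.pow_right 2 h7
          norm_num at this
          exact this
        have h7 : (u ^ e) ^ Nat.totient 25 ≡ 1 [MOD 25] := Nat.ModEq.pow_totient (h6.pow_left e)
        have h8 : Nat.totient 25 = 20 := by decide
        have h9 : Fintype.card F ^ 4 = (u ^ e) ^ 20 := by
          rw [hf, ← pow_mul, ← pow_mul, he]
          congr 1
          ring
        rw [h8, ← h9] at h7
        exact (Nat.modEq_iff_dvd' (Nat.one_le_pow _ _ (by omega))).1 h7.symm
      · have h4 := h3.trans (Nat.gcd_dvd_left _ _)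
        have h6 := h3.trans (Nat.gcd_dvd_right _ _)
        have h7 := Nat.le_of_dvd (by omega) h4
        refine ⟨5, by norm_num, h7, ?_⟩
        have h1 : Fintype.card F % 5 = 1 := by omega
        have key : ∀ w : Fin 25, w.1 % 5 = 1 → (w.1 ^ 5) % 25 = 1 := by decide +kernel
        have h2 := key ⟨Fintype.card F % 25, Nat.mod_lt _ (by norm_num)⟩ (by
          show Fintype.card F % 25 % 5 = 1
          omega)
        have h3 : Fintype.card F ^ 5 % 25 = 1 := by rw [Nat.pow_mod]; exact h2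
        omega
    obtain ⟨k, hk1, hk2, hk3⟩ := h3
    obtain ⟨rfl, h6, h7⟩ := L25 hn hub hk1 hk2 hk3
    exact case_C h h6 h1 h2
  · obtain ⟨k, hk1, hk2, hk3⟩ := exists_k (l := 5) (j := 1) (by norm_num) h5 (x := x) (by rw [hx]; norm_num)
    norm_num at hk3
    obtain ⟨rfl, h6, h7⟩ := L25 hn hub hk1 hk2 hk3
    exact not_sq_five h6 h7 x hx

end Cfsg.Agent.H126.Six
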